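import Groth.Agent.Lib.ProjTildeExact.PolyReg
import Groth.Agent.Lib.Graded.ProjDim
import Groth.Agent.Lib.Graded.MinRes
import Groth.Agent.Lib.Graded.Reg
import Groth.Agent.Lib.ProjFam.TwistQuot
import Groth.Agent.Lib.HProj.QuasiProj

/-!
# Resolutions of coherent sheaves on `P^n` by sums of twists, from the syzygy theorem
-/

set_option autoImplicit false

universe u v

open CategoryTheory CategoryTheory.Limits AlgebraicGeometry TopologicalSpace Opposite

noncomputable section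

namespace Groth.Agent.H95.SyzRes

set_option linter.style.haveILetI false

section Grading

variable {k : Type u} [Field k] {M : Type v} [AddCommGroup M] [Module k M] (ℳ : ℕ → Submodule k M)

/-- A grading by the natural numbers, regarded as a grading by the integers. -/
def extZ (i : ℤ) : Submodule k M := if 0 ≤ i then ℳ i.toNat else ⊥

theorem extZ_natCast (n : ℕ) : extZ ℳ (n : ℤ) = ℳ n := by simp [extZ]

theorem isInternal_extZ [DirectSum.Decomposition ℳ] : DirectSum.IsInternal (extZ ℳ) := by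
  obtain ⟨h1, h2⟩ := (DirectSum.isInternal_submodule_iff_iSupIndep_and_iSup_eq_top ℳ).1
    (DirectSum.Decomposition.isInternal ℳ)
  refine (DirectSum.isInternal_submodule_iff_iSupIndep_and_iSup_eq_top _).2 ⟨fun i => ?_, ?_⟩
  · by_cases hi : 0 ≤ i
    · refine (h1 i.toNat).mono (by simp [extZ, hi]) (iSup₂_le fun j hj => ?_)
      by_cases hj0 : 0 ≤ j
      · rw [extZ, if_pos hj0]
        exact le_iSup₂_of_le j.toNat (by omega) le_rfl
      · simp [extZ, hj0]
    · simp [extZ, hi]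
  · rw [eq_top_iff, ← h2]
    exact iSup_le fun n => le_iSup_of_le (n : ℤ) (extZ_natCast ℳ n).ge

/-- The decomposition for the grading by the integers. -/
@[implicit_reducible]
def extZDecomp [DirectSum.Decomposition ℳ] : DirectSum.Decomposition (extZ ℳ) :=
  (isInternal_extZ ℳ).chooseDecomposition

end Grading

open Lib Lib.ProjTildeExact.PolyReg Lib.ProjTildeExact Lib.ProjCoh.Sections

variable {k : Type u} [Field k] {r : ℕ}

theorem gradedSMul_extZ {M : Type u} [AddCommGroup M] [Module k M]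
    [Module (MvPolynomial (Fin (r + 1)) k) M] (ℳ : ℕ → Submodule k M)
    [SetLike.GradedSMul (CohB1.polyGrading r k) ℳ] :
    SetLike.GradedSMul (GrSyz.stdGr k (Fin (r + 1))) (extZ ℳ) where
  smul_mem {i j p x} hp hx := by
    by_cases hj : 0 ≤ j
    · rcases mem_std_cases hp with ⟨i', rfl, hp'⟩ | rfl
      · rw [extZ, if_pos hj] at hx
        have := SetLike.GradedSMul.smul_mem (B := ℳ) hp' hx
        rw [show (i' : ℤ) +ᵥ j = ((i' + j.toNat : ℕ) : ℤ) by rw [vadd_eq_add]; push_cast; omega,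
          extZ_natCast]
        exact this
      · rw [zero_smul]; exact zero_mem _
    · rw [extZ, if_neg hj, Submodule.mem_bot] at hx
      rw [hx, smul_zero]; exact zero_mem _

variable {M : Type u} [AddCommGroup M] [Module k M] [Module (MvPolynomial (Fin (r + 1)) k) M]
  {q : ℕ} (deg : Fin q → ℤ)

/-- The sheaf of a shifted free module. -/
abbrev FS : (CohB1.ProjSpace r k).Modules :=
  GrTilde.tilde (CohB1.polyGrading r k) (freeGr k r deg) 0

/-- The projection to a component. -/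
def pr (b : Fin q) : FS (k := k) (r := r) deg ⟶ TS r k (-deg b) := projMap deg b

/-- The inclusion of a component. -/
def sg (b : Fin q) : TS r k (-deg b) ⟶ FS (k := k) (r := r) deg := singleMap deg b

theorem locMap_id_apply (x : ProjectiveSpectrum (CohB1.polyGrading r k)) {N : Type u} [AddCommGroup N] [Module k N]
    [Module (MvPolynomial (Fin (r + 1)) k) N]
    (z : GrTilde.LocMod (CohB1.polyGrading r k) (M := N) x) : locMap LinearMap.id x z = z := by
  induction z using LocalizedModule.induction_on with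
  | h a s => rw [locMap_mk, LinearMap.id_apply]

theorem sum_pr_sg : ∑ b, pr (k := k) (r := r) deg b ≫ sg deg b = 𝟙 _ := sum_proj_single deg

theorem sg_pr (b : Fin q) : sg (k := k) (r := r) deg b ≫ pr deg b = 𝟙 _ := by
  refine tilde_hom_ext fun U σ x => ?_
  refine Eq.trans ((locMap_comp_apply _ _ x.1 _)) ?_
  rw [LinearMap.proj_comp_single_same]
  exact locMap_id_apply x.1 _

theorem sg_pr_ne {b b' : Fin q} (h : b ≠ b') :
    sg (k := k) (r := r) deg b ≫ pr deg b' = 0 := by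
  refine tilde_hom_ext fun U σ x => ?_
  refine Eq.trans ((locMap_comp_apply _ _ x.1 _)) ?_
  rw [LinearMap.proj_comp_single_ne _ _ b' b h.symm]
  exact locMap_zero_apply x.1 _

/-- A shifted free module gives a sum of twists. -/
def freeIso : FS (k := k) (r := r) deg ≅ ∐ fun b : Fin q => TS r k (-deg b) where
  hom := ∑ b, pr deg b ≫ Sigma.ι (fun b : Fin q => TS r k (-deg b)) b
  inv := Sigma.desc fun b => sg deg b
  hom_inv_id := by
    rw [Preadditive.sum_comp]
    refine Eq.trans (Finset.sum_congr rfl fun b _ => ?_) (sum_pr_sg deg)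
    rw [Category.assoc, Sigma.ι_desc]
  inv_hom_id := by
    refine Sigma.hom_ext _ _ fun b => ?_
    rw [Sigma.ι_desc_assoc, Category.comp_id, Preadditive.comp_sum, Finset.sum_eq_single b]
    · rw [← Category.assoc, sg_pr, Category.id_comp]
    · intro b' _ hb
      rw [← Category.assoc, sg_pr_ne deg (Ne.symm hb), zero_comp]
    · simp

theorem isZero_free {q : ℕ} (deg : Fin q → ℤ) (hq : q = 0) :
    IsZero (FS (k := k) (r := r) deg) := by
  subst hq
  rw [IsZero.iff_id_eq_zero, ← sum_pr_sg deg]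
  simp

section Chain

variable {C : Type*} [Category C] [Abelian C] (Q K : ℕ → C) {F : C}
  (ι : ∀ i, K i ⟶ Q i) (p : ∀ i, Q (i + 1) ⟶ K i) (π : Q 0 ⟶ F) (w : ∀ i, ι (i + 1) ≫ p i = 0)
  (w₀ : ι 0 ≫ π = 0)

include w in
theorem pι_comp (i : ℕ) : (p (i + 1) ≫ ι (i + 1)) ≫ (p i ≫ ι i) = 0 := by
  rw [Category.assoc, ← Category.assoc (ι (i + 1)), w, zero_comp, comp_zero]

variable (hS : ∀ i, (ShortComplex.mk (ι (i + 1)) (p i) (w i)).ShortExact)
  (hS₀ : (ShortComplex.mk (ι 0) π w₀).ShortExact)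

include hS in
theorem exact_pι (i : ℕ) (hm : Mono (ι i)) :
    (ShortComplex.mk (p (i + 1) ≫ ι (i + 1)) (p i ≫ ι i) (pι_comp Q K ι p w i)).Exact := by
  let S₁ := ShortComplex.mk (ι (i + 1)) (p i) (w i)
  let S₂ := ShortComplex.mk (p (i + 1) ≫ ι (i + 1)) (p i) (by rw [Category.assoc, w, comp_zero])
  let φ : S₂ ⟶ S₁ := { τ₁ := p (i + 1), τ₂ := 𝟙 _, τ₃ := 𝟙 _ }
  let ψ : S₂ ⟶ ShortComplex.mk (p (i + 1) ≫ ι (i + 1)) (p i ≫ ι i) (pι_comp Q K ι p w i) :=
    { τ₁ := 𝟙 _, τ₂ := 𝟙 _, τ₃ := ι i }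
  haveI : Epi φ.τ₁ := (hS (i + 1)).epi_g
  haveI : IsIso φ.τ₂ := inferInstanceAs (IsIso (𝟙 _))
  haveI : Mono φ.τ₃ := inferInstanceAs (Mono (𝟙 _))
  haveI : Epi ψ.τ₁ := inferInstanceAs (Epi (𝟙 _))
  haveI : IsIso ψ.τ₂ := inferInstanceAs (IsIso (𝟙 _))
  haveI : Mono ψ.τ₃ := hm
  exact (ShortComplex.exact_iff_of_epi_of_isIso_of_mono ψ).1
    ((ShortComplex.exact_iff_of_epi_of_isIso_of_mono φ).2 (hS i).exact)

include hS hS₀ in
theorem exists_complex : ∃ (Cx : ChainComplex C ℕ) (π' : Cx.X 0 ⟶ F) (w' : Cx.d 1 0 ≫ π' = 0),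
    (∀ i, Cx.X i = Q i) ∧ (∀ i : ℕ, 1 ≤ i → IsZero (Cx.homology i)) ∧ Epi π' ∧
      (ShortComplex.mk (Cx.d 1 0) π' w').Exact := by
  let Cx := ChainComplex.of Q (fun i => p i ≫ ι i) (pι_comp Q K ι p w)
  have hdj : ∀ j, Cx.d (j + 1) j = p j ≫ ι j := fun j => ChainComplex.of_d Q (fun i => p i ≫ ι i) j
  have hd : Cx.d 1 0 = p 0 ≫ ι 0 := hdj 0
  have w' : Cx.d 1 0 ≫ π = 0 := by
    have : (p 0 ≫ ι 0) ≫ π = 0 := by rw [Category.assoc, w₀, comp_zero]
    rw [hd]; exact this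
  refine ⟨Cx, π, w', fun i => rfl, fun i hi => ?_, hS₀.epi_g, ?_⟩
  · obtain ⟨j, rfl⟩ : ∃ j, i = j + 1 := ⟨i - 1, by omega⟩
    have hm : Mono (ι j) := by
      cases j with
      | zero => exact hS₀.mono_f
      | succ j => exact (hS j).mono_f
    rw [← HomologicalComplex.exactAt_iff_isZero_homology,
      HomologicalComplex.exactAt_iff' Cx (j + 1 + 1) (j + 1) j (by simp) (by simp)]
    refine ShortComplex.exact_of_iso ?_ (exact_pι Q K ι p w hS j hm)
    refine ShortComplex.isoMk (Iso.refl _) (Iso.refl _) (Iso.refl _) ?_ ?_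
    · change 𝟙 (Q (j + 1 + 1)) ≫ Cx.d (j + 1 + 1) (j + 1) = (p (j + 1) ≫ ι (j + 1)) ≫ 𝟙 (Q (j + 1))
      rw [Category.id_comp, Category.comp_id]; exact hdj (j + 1)
    · change 𝟙 (Q (j + 1)) ≫ Cx.d (j + 1) j = (p j ≫ ι j) ≫ 𝟙 (Q j)
      rw [Category.id_comp, Category.comp_id]; exact hdj j
  · let φ : ShortComplex.mk (p 0 ≫ ι 0) π (by rw [Category.assoc, w₀, comp_zero]) ⟶
        ShortComplex.mk (ι 0) π w₀ := { τ₁ := p 0, τ₂ := 𝟙 _, τ₃ := 𝟙 _ }
    haveI : Epi φ.τ₁ := (hS 0).epi_g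
    haveI : IsIso φ.τ₂ := inferInstanceAs (IsIso (𝟙 _))
    haveI : Mono φ.τ₃ := inferInstanceAs (Mono (𝟙 _))
    have key : ∀ (d : Q 1 ⟶ Q 0) (_ : d = p 0 ≫ ι 0) (wd : d ≫ π = 0), (ShortComplex.mk d π wd).Exact := by
      rintro _ rfl wd
      exact (ShortComplex.exact_iff_of_epi_of_isIso_of_mono φ).2 hS₀.exact
    exact key _ hd w'

end Chain

theorem shortExact_of_eq {C : Type*} [Category C] [Abelian C] {S : ShortComplex C} {A B D : C}
    (hS : S.ShortExact) (e₁ : S.X₁ = A) (e₂ : S.X₂ = B) (e₃ : S.X₃ = D) :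
    ∃ (f : A ⟶ B) (g : B ⟶ D) (w : f ≫ g = 0), (ShortComplex.mk f g w).ShortExact := by
  subst e₁ e₂ e₃
  exact ⟨S.f, S.g, S.zero, hS⟩

theorem shortExact_postcomp {C : Type*} [Category C] [Abelian C] {A B D F : C} {f : A ⟶ B} {g : B ⟶ D}
    {w : f ≫ g = 0} (h : (ShortComplex.mk f g w).ShortExact) (e : D ≅ F) :
    ∃ (f : A ⟶ B) (g : B ⟶ F) (w : f ≫ g = 0), (ShortComplex.mk f g w).ShortExact :=
  ⟨f, g ≫ e.hom, by rw [reassoc_of% w, zero_comp],
    ShortComplex.shortExact_of_iso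
      (ShortComplex.isoMk (S₁ := ShortComplex.mk f g w) (Iso.refl _) (Iso.refl _) e (by simp) (by simp)) h⟩

theorem tilde_eq {ℳ ℳ' : ℕ → Submodule k M} [SetLike.GradedSMul (CohB1.polyGrading r k) ℳ]
    [SetLike.GradedSMul (CohB1.polyGrading r k) ℳ'] (h : ℳ = ℳ') :
    GrTilde.tilde (CohB1.polyGrading r k) ℳ 0 = GrTilde.tilde (CohB1.polyGrading r k) ℳ' 0 := by
  subst h; rfl

theorem exists_module (F : (Proj (CohB1.polyGrading r k)).Modules) [F.IsQuasicoherent] (hF : CohB1.IsFT F) :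
    ∃ (M : Type u) (_ : AddCommGroup M) (_ : Module k M) (_ : Module (MvPolynomial (Fin (r + 1)) k) M)
      (_ : IsScalarTower k (MvPolynomial (Fin (r + 1)) k) M) (_ : Module.Finite (MvPolynomial (Fin (r + 1)) k) M)
      (ℳ : ℕ → Submodule k M) (_ : DirectSum.Decomposition ℳ)
      (_ : SetLike.GradedSMul (CohB1.polyGrading r k) ℳ),
      Nonempty (GrTilde.tilde (CohB1.polyGrading r k) ℳ 0 ≅ F) := by
  classical
  let s : Finset (MvPolynomial (Fin (r + 1)) k) := Finset.univ.image fun i => MvPolynomial.X i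
  have hs1 : ∀ f ∈ s, f ∈ CohB1.polyGrading r k 1 := by
    intro f hf
    obtain ⟨i, -, rfl⟩ := Finset.mem_image.1 hf
    exact MvPolynomial.isHomogeneous_X _ i
  have hs : (HomogeneousIdeal.irrelevant (CohB1.polyGrading r k)).toIdeal = Ideal.span (s : Set _) :=
    HProj.QuasiProj.irrelevant_eq_span r k
  obtain ⟨ι, hι, d, v, hv⟩ := ProjFam.Main.exists_gens hs1 (F := F) hF
  let N := Submodule.span (MvPolynomial (Fin (r + 1)) k)
    (Set.range fun i => ProjFam.Total.incl (d i) (v i))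
  have hN : ProjFam.Assoc.IsHomog N := ProjFam.Main.isHomog_span d v
  letI := ProjFam.Assoc.sDecomposition hN
  haveI : Module.Finite (MvPolynomial (Fin (r + 1)) k) N :=
    Module.Finite.iff_fg.2 (Submodule.fg_span (Set.finite_range _))
  refine ⟨N, inferInstance, inferInstance, inferInstance, inferInstance, inferInstance,
    ProjFam.Assoc.sGrade N, inferInstance, inferInstance,
    ProjFam.Assoc.nonempty_iso (ProjFam.Main.cover_of_span hs) hN fun f => eq_top_iff.mpr ((hv f).ge.trans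
      (Submodule.span_mono ?_))⟩
  rintro _ ⟨i, rfl⟩
  exact ⟨(d i, ⟨_, Submodule.subset_span ⟨i, rfl⟩⟩), congrFun (ProjFam.Total.comp_incl _ _) f⟩

theorem exists_resolution (F : (CohB1.ProjSpace r k).Modules) [F.IsQuasicoherent] (hF : CohB1.IsFT F) :
    ∃ (C : ChainComplex (CohB1.ProjSpace r k).Modules ℕ) (π : C.X 0 ⟶ F) (w : C.d 1 0 ≫ π = 0),
      (∀ i : ℕ, r + 1 < i → IsZero (C.X i)) ∧
      (∀ i : ℕ, ∃ (m : ℕ) (d : Fin m → ℤ),
        Nonempty (C.X i ≅ ∐ fun j : Fin m => Twist.twistProjSpace r k (d j))) ∧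
      (∀ i : ℕ, 1 ≤ i → IsZero (C.homology i)) ∧ Epi π ∧ (ShortComplex.mk (C.d 1 0) π w).Exact := by
  obtain ⟨M, _, _, _, _, _, ℳ, _, _, ⟨e⟩⟩ := @exists_module _ _ _ F (inferInstanceAs F.IsQuasicoherent) hF
  letI := extZDecomp ℳ
  haveI := gradedSMul_extZ (r := r) ℳ
  have he : (fun n : ℕ => extZ ℳ (n : ℤ)) = ℳ := funext (extZ_natCast ℳ)
  haveI : SetLike.GradedSMul (CohB1.polyGrading r k) (fun n : ℕ => extZ ℳ (n : ℤ)) :=
    he.symm ▸ ‹SetLike.GradedSMul (CohB1.polyGrading r k) ℳ›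
  obtain ⟨Fr, hFr⟩ := Lib.Graded.MinRes.exists_res (GrSyz.stdGr k (Fin (r + 1))) (extZ ℳ)
    (Lib.Graded.Reg.unitOutside (k := k) (σ := Fin (r + 1)))
  have hlen : Fr.HasLengthLE (r + 1) := by
    have h := (Lib.Graded.ProjDim.hasLengthLE_iff hFr (Nat.card (Fin (r + 1)))).2
      Lib.Graded.ProjDim.pd_le_card
    rwa [Nat.card_fin] at h
  let Q : ℕ → (CohB1.ProjSpace r k).Modules := fun i =>
    FS (Fr.deg i)
  have h1 : ∀ i, ∃ (f : syzT Fr (i + 1) ⟶ Q (i + 1)) (g : Q (i + 1) ⟶ syzT Fr i) (w : f ≫ g = 0),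
      (ShortComplex.mk f g w).ShortExact := fun i => by
    obtain ⟨S, hS, a, b, c⟩ := exists_shortExact_syz Fr i
    exact shortExact_of_eq hS a b c
  have h0 : ∃ (f : syzT Fr 0 ⟶ Q 0) (g : Q 0 ⟶ F) (w : f ≫ g = 0),
      (ShortComplex.mk f g w).ShortExact := by
    obtain ⟨S, hS, a, b, c⟩ := exists_shortExact_aug Fr
    let T : (CohB1.ProjSpace r k).Modules := GrTilde.tilde (CohB1.polyGrading r k) ℳ 0
    let e : T ≅ F := e
    obtain ⟨f, g, w, h⟩ := shortExact_of_eq hS a b (show S.X₃ = T from c.trans (tilde_eq he))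
    exact shortExact_postcomp h e
  choose f g w hS using h1
  obtain ⟨f₀, g₀, w₀, hS₀⟩ := h0
  let ι : ∀ i, syzT Fr i ⟶ Q i := fun i => match i with
    | 0 => f₀
    | j + 1 => f j
  obtain ⟨C, π, w', hX, hH, hπ, hex⟩ := exists_complex Q (syzT Fr) ι g g₀ w w₀ hS hS₀
  refine ⟨C, π, w', fun i hi => ?_, fun i => ?_, hH, hπ, hex⟩
  · rw [hX]; exact isZero_free _ (hlen i hi)
  · refine ⟨_, fun b => -Fr.deg i b, ⟨eqToIso (hX i) ≪≫ freeIso (Fr.deg i) ≪≫ ?_⟩⟩
    exact Sigma.mapIso fun b => (ProjTilde.Basic.twistIsoTilde _).symm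

end Groth.Agent.H95.SyzRes
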