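import Groth.Agent.H95.SyzRes.Koszul
import Groth.Agent.S0843
import Groth.Agent.S0844
import Groth.Agent.H66.Cot.Graded
import Groth.Agent.Lib.CohBasics.Closure
import Groth.Agent.Lib.Snapper.Twist
import Groth.Agent.Lib.Snapper.Chi
import Groth.Agent.Lib.Snapper.Finite
import Groth.Agent.Lib.Snapper.DimBound
import Groth.Agent.Lib.ProjCoh.Horrocks
import Groth.Prelude.Def_KZero

/-!
# The Grothendieck group of coherent sheaves on `P^n`
-/

set_option autoImplicit false
set_option linter.style.haveILetI false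

universe u

open CategoryTheory CategoryTheory.Limits AlgebraicGeometry

noncomputable section

namespace Groth.Agent.H95.SyzRes.K0

open Lib Lib.ProjCoh.Sections

section General

variable {X : Scheme.{u}}

local notation "P" => (fun M : X.Modules => Coh.IsCoh M)

theorem clSub_add {S : ShortComplex X.Modules} (hS : S.ShortExact) (h₁ : Coh.IsCoh S.X₁)
    (h₂ : Coh.IsCoh S.X₂) (h₃ : Coh.IsCoh S.X₃) :
    KZero.clSub P S.X₂ = KZero.clSub P S.X₁ + KZero.clSub P S.X₃ := by
  rw [KZero.clSub, KZero.clSub, KZero.clSub, dif_pos h₁, dif_pos h₂, dif_pos h₃, ← sub_eq_zero,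
    ← sub_sub, ← QuotientAddGroup.mk_sub, ← QuotientAddGroup.mk_sub, QuotientAddGroup.eq_zero_iff]
  exact AddSubgroup.subset_closure ⟨S, h₁, h₂, h₃, hS, rfl⟩

theorem isCoh_zero {Z : X.Modules} (hZ : IsZero Z) : Coh.IsCoh Z := by
  have hO := Snapper.Twist.isCoh_structureModule X
  have h := CohBasics.Closure.isCoh_cokernel (𝟙 (Coh.structureModule X)) hO.1 hO
  exact CohBasics.Closure.isCoh_of_iso ((isZero_cokernel_of_epi _).iso hZ) h

theorem clSub_zero {Z : X.Modules} (hZ : IsZero Z) : KZero.clSub P Z = 0 := by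
  have hS : (ShortComplex.mk (𝟙 Z) (𝟙 Z) (hZ.eq_of_src _ _)).ShortExact :=
    ShortComplex.ShortExact.mk' (ShortComplex.exact_of_isZero_X₂ _ hZ) inferInstance inferInstance
  have h := clSub_add hS (isCoh_zero hZ) (isCoh_zero hZ) (isCoh_zero hZ)
  exact left_eq_add.mp h

theorem clSub_iso {F G : X.Modules} (e : F ≅ G) (hF : Coh.IsCoh F) :
    KZero.clSub P F = KZero.clSub P G := by
  have hG := CohBasics.Closure.isCoh_of_iso e hF
  let Z : X.Modules := cokernel (𝟙 F)
  have hZ : IsZero Z := isZero_cokernel_of_epi _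
  have hS : (ShortComplex.mk e.hom (0 : G ⟶ Z) comp_zero).ShortExact := by
    haveI : Epi (0 : G ⟶ Z) := ⟨fun _ _ _ => hZ.eq_of_src _ _⟩
    refine ShortComplex.ShortExact.mk' ?_ inferInstance inferInstance
    exact (ShortComplex.exact_iff_epi _ rfl).2 inferInstance
  have h := clSub_add hS hF hG (isCoh_zero hZ)
  rw [clSub_zero hZ, add_zero] at h
  exact h.symm

variable (X) in
/-- The Grothendieck group of coherent modules. -/
abbrev G₀ : Type _ := KZero.K0sub (A := X.Modules) (fun M : X.Modules => Coh.IsCoh M)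

/-- Membership in a subgroup, for a coherent module. -/
def Mem (H : AddSubgroup (G₀ X)) (F : X.Modules) : Prop :=
  Coh.IsCoh F ∧ KZero.clSub P F ∈ H

variable {H : AddSubgroup (G₀ X)}

theorem Mem.of_iso {F G : X.Modules} (e : F ≅ G) (hF : Mem H F) : Mem H G :=
  ⟨CohBasics.Closure.isCoh_of_iso e hF.1, clSub_iso e hF.1 ▸ hF.2⟩

theorem Mem.of_isZero {Z : X.Modules} (hZ : IsZero Z) : Mem H Z :=
  ⟨isCoh_zero hZ, by rw [clSub_zero hZ]; exact zero_mem _⟩

theorem Mem.X₃ {S : ShortComplex X.Modules} (hS : S.ShortExact) (h₁ : Mem H S.X₁) (h₂ : Mem H S.X₂) :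
    Mem H S.X₃ := by
  have hc : Coh.IsCoh S.X₃ := by
    haveI := hS.epi_g
    exact CohBasics.Closure.isCoh_of_iso
      (IsColimit.coconePointUniqueUpToIso (colimit.isColimit _) hS.exact.gIsCokernel)
      (CohBasics.Closure.isCoh_cokernel S.f h₁.1.1 h₂.1)
  refine ⟨hc, ?_⟩
  rw [← add_sub_cancel_left (KZero.clSub P S.X₁) (KZero.clSub P S.X₃), ← clSub_add hS h₁.1 h₂.1 hc]
  exact sub_mem h₂.2 h₁.2

theorem Mem.biprod {F G : X.Modules} (hF : Mem H F) (hG : Mem H G) : Mem H (F ⊞ G) := by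
  refine ⟨CohBasics.Closure.isCoh_biprod hF.1 hG.1, ?_⟩
  have hS : (ShortComplex.mk (biprod.inl : F ⟶ F ⊞ G) biprod.snd biprod.inl_snd).ShortExact :=
    (ShortComplex.Splitting.ofHasBinaryBiproduct F G).shortExact
  rw [clSub_add hS hF.1 (CohBasics.Closure.isCoh_biprod hF.1 hG.1) hG.1]
  exact add_mem hF.2 hG.2

theorem Mem.sigma : ∀ {m : ℕ} (f : Fin m → X.Modules), (∀ i, Mem H (f i)) → Mem H (∐ f)
  | 0, f, _ => Mem.of_isZero (by
      rw [IsZero.iff_id_eq_zero]
      exact Sigma.hom_ext _ _ fun i => i.elim0)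
  | m + 1, f, hf => by
    let e : f 0 ⊞ (∐ fun i : Fin m => f i.succ) ≅ ∐ f :=
      { hom := biprod.desc (Sigma.ι f 0) (Sigma.desc fun i : Fin m => Sigma.ι f i.succ)
        inv := Sigma.desc (Fin.cases biprod.inl
          fun i : Fin m => Sigma.ι (fun i : Fin m => f i.succ) i ≫ biprod.inr)
        hom_inv_id := by
          refine biprod.hom_ext' _ _ ?_ (Sigma.hom_ext _ _ fun i => ?_)
          · simp
          · simp
        inv_hom_id := by
          refine Sigma.hom_ext _ _ fun i => ?_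
          refine Fin.cases ?_ (fun i => ?_) i
          · simp
          · simp }
    exact Mem.of_iso e (Mem.biprod (hf 0) (Mem.sigma _ fun i => hf i.succ))

end General

variable (k : Type u) [Field k] (n : ℕ)

/-- The class of coherent modules on projective space. -/
abbrev Pn : ObjectProperty (CohB1.ProjSpace n k).Modules :=
  fun M : (CohB1.ProjSpace n k).Modules => Coh.IsCoh M

/-- The class of `O(d)`. -/
def cO (d : ℤ) : KZero.K0sub (Pn k n) := KZero.clSub (Pn k n) (Twist.twistProjSpace n k d)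

/-- The subgroup generated by `O, …, O(-n)`. -/
def gen : AddSubgroup (KZero.K0sub (Pn k n)) :=
  AddSubgroup.closure (Set.range fun i : Fin (n + 1) => cO k n (-((i : ℕ) : ℤ)))

theorem isCoh_TS (d : ℤ) : Coh.IsCoh (TS n k d) :=
  CohBasics.Closure.isCoh_of_iso (ProjCoh.Coherent.twIso d) (ProjCoh.Coherent.isCoh_tw d)

theorem isCoh_S : ∀ j, j ≤ n + 1 → ∀ d : ℤ, Coh.IsCoh (Koszul.S (k := k) (r := n) j d)
  | 0, _, d => CohBasics.Closure.isCoh_of_iso (Koszul.zeroIso d).symm (isCoh_TS k n d)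
  | j + 1, hj, d => by
    obtain ⟨T, hT, h1, h2, h3⟩ := Koszul.exists_shortExact (k := k) (r := n) j (by omega) d
    have c1 : Coh.IsCoh T.X₁ := h1 ▸ CohBasics.Closure.isCoh_of_iso (Koszul.shiftIso j d).symm
      (isCoh_S j (by omega) (d - 1))
    have c2 : Coh.IsCoh T.X₂ := h2 ▸ isCoh_S j (by omega) d
    exact h3 ▸ (Mem.X₃ (H := ⊤) hT ⟨c1, trivial⟩ ⟨c2, trivial⟩).1

/-- The class of a coordinate subspace. -/
def cS (j : ℕ) (d : ℤ) : KZero.K0sub (Pn k n) := KZero.clSub (Pn k n) (Koszul.S (k := k) (r := n) j d)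

theorem cS_zero (d : ℤ) : cS k n 0 d = cO k n d :=
  (clSub_iso (Koszul.zeroIso d ≪≫ (ProjCoh.Coherent.twIso d).symm) (isCoh_S k n 0 (by omega) d)).trans rfl

theorem cS_succ (j : ℕ) (hj : j ≤ n) (d : ℤ) : cS k n (j + 1) d = cS k n j d - cS k n j (d - 1) := by
  obtain ⟨T, hT, h1, h2, h3⟩ := Koszul.exists_shortExact (k := k) (r := n) j (by omega) d
  have e := isCoh_S k n j (by omega) (d - 1)
  have h := clSub_add hT (h1 ▸ CohBasics.Closure.isCoh_of_iso (Koszul.shiftIso j d).symm e)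
    (h2 ▸ isCoh_S k n j (by omega) d) (h3 ▸ isCoh_S k n (j + 1) (by omega) d)
  rw [h1, h2, h3, clSub_iso (Koszul.shiftIso j d) (CohBasics.Closure.isCoh_of_iso (Koszul.shiftIso j d).symm e)] at h
  exact eq_sub_of_add_eq' h.symm

theorem cS_top (d : ℤ) : cS k n (n + 1) d = 0 := clSub_zero (Koszul.isZero_top d)

/-- `cS j d` differs from its extreme term by the others. -/
theorem cS_sub_mem (H : AddSubgroup (KZero.K0sub (Pn k n))) :
    ∀ j, j ≤ n + 1 → ∀ d : ℤ,
      ((∀ i : ℕ, 1 ≤ i → i ≤ j → cO k n (d - i) ∈ H) → cS k n j d - cO k n d ∈ H) ∧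
      ((∀ i : ℕ, i < j → cO k n (d - i) ∈ H) → cS k n j d - (-1 : ℤ) ^ j • cO k n (d - j) ∈ H)
  | 0, _, d => by
    refine ⟨fun _ => ?_, fun _ => ?_⟩ <;> simp [cS_zero]
  | j + 1, hj, d => by
    obtain ⟨a1, a2⟩ := cS_sub_mem H j (by omega) d
    obtain ⟨b1, b2⟩ := cS_sub_mem H j (by omega) (d - 1)
    rw [cS_succ k n j (by omega) d]
    have hd : ∀ i : ℕ, d - 1 - (i : ℤ) = d - ((i + 1 : ℕ) : ℤ) := fun i => by push_cast; ring
    refine ⟨fun h => ?_, fun h => ?_⟩
    · have e1 := a1 fun i hi hi' => h i hi (by omega)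
      have e2 := b1 fun i hi hi' => by rw [hd]; exact h (i + 1) (by omega) (by omega)
      have e3 := h 1 le_rfl (by omega)
      rw [Nat.cast_one] at e3
      convert sub_mem (sub_mem e1 e2) e3 using 1
      abel
    · have e0 := a1 fun i hi hi' => h i (by omega)
      have e3 := h 0 (Nat.succ_pos j)
      rw [Nat.cast_zero, sub_zero] at e3
      have e2 := b2 fun i hi => by rw [hd]; exact h (i + 1) (by omega)
      rw [hd] at e2
      convert sub_mem (add_mem e0 e3) e2 using 1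
      rw [pow_succ, mul_neg_one, neg_smul]
      abel

theorem cO_mem_gen : ∀ d : ℤ, cO k n d ∈ gen k n := by
  have hwin : ∀ i : ℕ, i ≤ n → cO k n (0 - (i : ℤ)) ∈ gen k n := fun i hi => by
    rw [zero_sub]
    exact AddSubgroup.subset_closure ⟨⟨i, by omega⟩, rfl⟩
  have hup : ∀ m : ℕ, cO k n ((m : ℤ) - n) ∈ gen k n := by
    intro m
    induction m using Nat.strong_induction_on with
    | _ m ih =>
      by_cases hm : m ≤ n
      · have := hwin (n - m) (by omega)
        rwa [show (0 : ℤ) - ((n - m : ℕ) : ℤ) = (m : ℤ) - n by omega] at this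
      · have h := (cS_sub_mem k n (gen k n) (n + 1) le_rfl ((m : ℤ) - n)).1 fun i hi hi' => by
          have := ih (m - i) (by omega)
          rwa [show ((m - i : ℕ) : ℤ) - n = (m : ℤ) - n - i by omega] at this
        rw [cS_top, zero_sub] at h
        exact neg_mem_iff.1 h
  have hdown : ∀ m : ℕ, cO k n (-(m : ℤ)) ∈ gen k n := by
    intro m
    induction m using Nat.strong_induction_on with
    | _ m ih =>
      by_cases hm : m ≤ n
      · have := hwin m hm
        rwa [zero_sub] at this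
      · have h := (cS_sub_mem k n (gen k n) (n + 1) le_rfl ((n + 1 : ℕ) - (m : ℤ))).2 fun i hi => by
          have := ih (m - (n + 1 - i)) (by omega)
          rwa [show -((m - (n + 1 - i) : ℕ) : ℤ) = ((n + 1 : ℕ) : ℤ) - m - i by omega] at this
        rw [cS_top, zero_sub, show ((n + 1 : ℕ) : ℤ) - m - ((n + 1 : ℕ) : ℤ) = -(m : ℤ) by omega,
          neg_mem_iff] at h
        rcases neg_one_pow_eq_or ℤ (n + 1) with e | e <;> rw [e] at h
        · rwa [one_smul] at h
        · rwa [neg_smul, one_smul, neg_mem_iff] at h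
  intro d
  by_cases hd : 0 ≤ d
  · have := hup (d + n).toNat
    rwa [show ((d + n).toNat : ℤ) - n = d by omega] at this
  · have := hdown (-d).toNat
    rwa [show -(((-d).toNat : ℤ)) = d by omega] at this

open Lib.ProjTildeExact.PolyReg in
theorem mem_gen (F : (CohB1.ProjSpace n k).Modules) (hF : Coh.IsCoh F) : Mem (gen k n) F := by
  haveI : F.IsQuasicoherent := hF.1
  obtain ⟨M, _, _, _, _, _, ℳ, _, _, ⟨e⟩⟩ := @exists_module k _ n F (inferInstanceAs F.IsQuasicoherent) hF.2
  letI := extZDecomp ℳ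
  haveI := gradedSMul_extZ (r := n) ℳ
  have he : (fun i : ℕ => extZ ℳ (i : ℤ)) = ℳ := funext (extZ_natCast ℳ)
  haveI : SetLike.GradedSMul (CohB1.polyGrading n k) (fun i : ℕ => extZ ℳ (i : ℤ)) :=
    he.symm ▸ ‹SetLike.GradedSMul (CohB1.polyGrading n k) ℳ›
  obtain ⟨Fr, hFr⟩ := Lib.Graded.MinRes.exists_res (GrSyz.stdGr k (Fin (n + 1))) (extZ ℳ)
    (Lib.Graded.Reg.unitOutside (k := k) (σ := Fin (n + 1)))
  have hlen : Fr.HasLengthLE (n + 1) := by
    have h := (Lib.Graded.ProjDim.hasLengthLE_iff hFr (Nat.card (Fin (n + 1)))).2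
      Lib.Graded.ProjDim.pd_le_card
    rwa [Nat.card_fin] at h
  have hQ : ∀ i, Mem (gen k n) (FS (k := k) (r := n) (Fr.deg i)) := fun i =>
    Mem.of_iso (freeIso (Fr.deg i)).symm (Mem.sigma _ fun b =>
      ⟨isCoh_TS k n _, (clSub_iso (ProjCoh.Coherent.twIso (-Fr.deg i b)).symm (isCoh_TS k n _)).symm ▸
        cO_mem_gen k n (-Fr.deg i b)⟩)
  have hsyz : ∀ b s, n + 1 ≤ s + b → Mem (gen k n) (syzT Fr s) := by
    intro b
    induction b with
    | zero =>
      intro s hs
      obtain ⟨S, hS, h1, h2, h3⟩ := exists_shortExact_syz Fr s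
      have hz : IsZero S.X₂ := h2 ▸ isZero_free (Fr.deg (s + 1)) (hlen (s + 1) (by omega))
      haveI := hS.epi_g
      exact h3 ▸ Mem.of_isZero (IsZero.of_epi S.g hz)
    | succ b ih =>
      intro s hs
      obtain ⟨S, hS, h1, h2, h3⟩ := exists_shortExact_syz Fr s
      exact h3 ▸ Mem.X₃ hS (h1 ▸ ih (s + 1) (by omega)) (h2 ▸ hQ (s + 1))
  obtain ⟨S, hS, h1, h2, h3⟩ := exists_shortExact_aug Fr
  have h := Mem.X₃ hS (h1 ▸ hsyz (n + 1) 0 (by omega)) (h2 ▸ hQ 0)
  let T : (CohB1.ProjSpace n k).Modules := GrTilde.tilde (CohB1.polyGrading n k) ℳ 0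
  let e' : T ≅ F := e
  exact Mem.of_iso e' ((show S.X₃ = T from h3.trans (tilde_eq he)) ▸ h)

theorem surjective :
    Function.Surjective (fun a : Fin (n + 1) → ℤ => ∑ i, a i • cO k n (-((i : ℕ) : ℤ))) := by
  let Φ : (Fin (n + 1) → ℤ) →+ KZero.K0sub (Pn k n) :=
    AddMonoidHom.mk' (fun a => ∑ i, a i • cO k n (-((i : ℕ) : ℤ))) fun a b => by
      simp only [Pi.add_apply, add_smul, Finset.sum_add_distrib]
  suffices h : ∀ x, x ∈ Φ.range from fun x => h x
  have hgen : gen k n ≤ Φ.range := by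
    rw [gen, AddSubgroup.closure_le]
    rintro _ ⟨i, rfl⟩
    classical
    refine ⟨Pi.single i 1, ?_⟩
    simp [Φ, Pi.single_apply, ite_smul]
  intro x
  obtain ⟨y, rfl⟩ := QuotientAddGroup.mk_surjective x
  induction y using FreeAbelianGroup.induction_on with
  | zero => exact zero_mem _
  | of y =>
    have h := hgen (mem_gen k n y.1 y.2).2
    rw [KZero.clSub, dif_pos y.2] at h
    exact h
  | neg y hy => exact neg_mem hy
  | add y z hy hz => exact add_mem hy hz

theorem euler_twist {N : ℕ} (hN : n ≤ N) {d : ℤ} (hd : -(n : ℤ) ≤ d) (hd0 : d ≤ 0) :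
    FGA.eulerCharLE k (CohB1.ProjSpace n k) (Twist.twistProjSpace n k d) N = if d = 0 then 1 else 0 := by
  have hz : ∀ j : ℕ, ¬ (j = 0 ∧ 0 ≤ d) → (-1 : ℤ) ^ j *
      (Module.finrank k (Coh.HH (CohB1.ProjSpace n k) (Twist.twistProjSpace n k d) j) : ℤ) = 0 := by
    intro j h
    haveI := S0844.result k n d j h (by omega)
    rw [Module.finrank_zero_of_subsingleton, Nat.cast_zero, mul_zero]
  unfold FGA.eulerCharLE
  split_ifs with h
  · subst h
    rw [Finset.sum_eq_single 0 (fun j _ hj => hz j fun h => hj h.1) (by simp)]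
    obtain ⟨e⟩ := S0843.result k n 0
    have e' : Coh.HH (CohB1.ProjSpace n k) (Twist.twistProjSpace n k 0) 0 ≃ₗ[k]
        ↥(MvPolynomial.homogeneousSubmodule (Fin (n + 1)) k 0) := e
    rw [pow_zero, one_mul, e'.finrank_eq, (H66.Cot.finrank_homogeneous (n + 1) 0).2]
    simp
  · exact Finset.sum_eq_zero fun j _ => hz j (by omega)

theorem injective :
    Function.Injective (fun a : Fin (n + 1) → ℤ => ∑ i, a i • cO k n (-((i : ℕ) : ℤ))) := by
  haveI : IsProper (CohB1.ProjSpace n k ↘ Spec (CommRingCat.of k)) := ProjSpace.Basic.isProper_toSpec n k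
  haveI := Curves.GlobalSections.isNoetherian_of_proper k (CohB1.ProjSpace n k)
  obtain ⟨D, hD⟩ := Snapper.DimBound.exists_dim_bound k (CohB1.ProjSpace n k)
  let N := max D n
  have hN : topologicalKrullDim (CohB1.ProjSpace n k) ≤ (N : WithBot ℕ∞) :=
    hD.trans (by exact_mod_cast le_max_left D n)
  have hfin := Snapper.Finite.cohFinite k (CohB1.ProjSpace n k)
  let w : ℤ → Subtype (Pn k n) → ℤ := fun m G =>
    FGA.eulerCharLE k (CohB1.ProjSpace n k) (CohB1.tensorMod (ProjCoh.Coherent.tw n k m) G.1) N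
  have hker : ∀ m, KZero.relSub (Pn k n) ≤ (FreeAbelianGroup.lift (w m)).ker := fun m => by
    refine (AddSubgroup.closure_le _).2 ?_
    rintro _ ⟨S, h₁, h₂, h₃, hS, rfl⟩
    have hinv := ProjCoh.Coherent.isInvertible_tw (n := n) (R := k) m
    have := Snapper.Chi.eulerCharLE_add hfin hN (Snapper.Twist.twistSeq_shortExact hinv hS)
      (Snapper.Twist.isCoh_twist hinv h₁) (Snapper.Twist.isCoh_twist hinv h₂)
      (Snapper.Twist.isCoh_twist hinv h₃)
    simp only [SetLike.mem_coe, AddMonoidHom.mem_ker, map_sub, FreeAbelianGroup.lift_apply_of, w]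
    rw [sub_sub, sub_eq_zero]
    exact this
  let χ : ℤ → KZero.K0sub (Pn k n) →+ ℤ := fun m => QuotientAddGroup.lift _ _ (hker m)
  have hval : ∀ m i : ℕ, m ≤ n → i ≤ n → m ≤ i →
      χ (m : ℤ) (cO k n (-(i : ℤ))) = if i = m then 1 else 0 := by
    intro m i hm hi hmi
    have hc : Coh.IsCoh (Twist.twistProjSpace n k (-(i : ℤ))) := ProjCoh.Coherent.isCoh_tw _
    have hχ : χ (m : ℤ) (cO k n (-(i : ℤ))) = w (m : ℤ) ⟨_, hc⟩ := by
      rw [cO, KZero.clSub, dif_pos hc]
      exact FreeAbelianGroup.lift_apply_of _ _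
    rw [hχ]
    refine (Snapper.Chi.eulerCharLE_of_iso (ProjCoh.Coherent.twTensor (m : ℤ) (-(i : ℤ))) N).trans ?_
    refine (euler_twist k n (le_max_right D n) (d := (m : ℤ) + -(i : ℤ)) (by omega) (by omega)).trans ?_
    by_cases h : i = m
    · rw [if_pos h, if_pos (by omega)]
    · rw [if_neg h, if_neg (by omega)]
  intro a b hab
  funext i
  induction i using WellFoundedLT.induction with
  | _ i ih =>
    have h := congrArg (χ ((i : ℕ) : ℤ)) hab
    simp only [map_sum, map_zsmul, smul_eq_mul] at h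
    rw [← Finset.add_sum_erase _ _ (Finset.mem_univ i), ← Finset.add_sum_erase _ _ (Finset.mem_univ i)] at h
    have hs : ∑ l ∈ Finset.univ.erase i, a l * χ ((i : ℕ) : ℤ) (cO k n (-((l : ℕ) : ℤ))) =
        ∑ l ∈ Finset.univ.erase i, b l * χ ((i : ℕ) : ℤ) (cO k n (-((l : ℕ) : ℤ))) := by
      refine Finset.sum_congr rfl fun l hl => ?_
      by_cases hli : l < i
      · rw [ih l hli]
      · have hne : (l : ℕ) ≠ i := fun e => (Finset.mem_erase.1 hl).1 (Fin.ext e)
        rw [hval i l (by omega) (by omega) (by omega), if_neg hne, mul_zero, mul_zero]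
    rw [hs, add_left_inj, hval i i (by omega) (by omega) le_rfl, if_pos rfl, mul_one, mul_one] at h
    exact h

end Groth.Agent.H95.SyzRes.K0
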