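import Groth.Agent.H95.SyzRes.Basic

/-!
# The sheaves of the coordinate subspaces: Koszul relations between twists
-/

set_option autoImplicit false
set_option linter.style.haveILetI false

universe u

open CategoryTheory CategoryTheory.Limits AlgebraicGeometry MvPolynomial

noncomputable section

namespace Groth.Agent.H95.SyzRes.Koszul

open Lib Lib.ProjTildeExact Lib.ProjCoh.Sections

variable {k : Type u} [Field k] {r : ℕ}

local notation "A" => MvPolynomial (Fin (r + 1)) k

/-- Substituting zero for the first `j` variables. -/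
def φ (j : ℕ) : A →ₐ[k] A := aeval fun i : Fin (r + 1) => if (i : ℕ) < j then 0 else X i

theorem φ_X (j : ℕ) (i : Fin (r + 1)) :
    φ (k := k) (r := r) j (X i) = if (i : ℕ) < j then 0 else X i := aeval_X _ _

theorem φ_zero (p : A) : φ (k := k) (r := r) 0 p = p := by
  have : φ (k := k) (r := r) 0 = AlgHom.id k A := algHom_ext fun i => by simp [φ_X]
  rw [this]; rfl

theorem φ_φ {j j' : ℕ} (h : j ≤ j') (p : A) : φ (k := k) (r := r) j' (φ j p) = φ j' p := by
  have : (φ (k := k) (r := r) j').comp (φ j) = φ j' := algHom_ext fun i => by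
    simp only [AlgHom.comp_apply, φ_X]
    by_cases hi : (i : ℕ) < j
    · simp [hi, show (i : ℕ) < j' by omega]
    · simp [hi, φ_X]
  exact AlgHom.congr_fun this p

theorem φ_φ' {j j' : ℕ} (h : j ≤ j') (p : A) : φ (k := k) (r := r) j (φ j' p) = φ j' p := by
  have : (φ (k := k) (r := r) j).comp (φ j') = φ j' := algHom_ext fun i => by
    simp only [AlgHom.comp_apply, φ_X]
    by_cases hi : (i : ℕ) < j'
    · simp [hi]
    · simp [hi, φ_X, show ¬ (i : ℕ) < j by omega]
  exact AlgHom.congr_fun this p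

theorem φ_homogeneous (j : ℕ) {p : A} {e : ℕ} (hp : p ∈ CohB1.polyGrading r k e) :
    φ (k := k) (r := r) j p ∈ CohB1.polyGrading r k e := by
  have h : ∀ i : Fin (r + 1), (if (i : ℕ) < j then (0 : A) else X i).IsHomogeneous 1 := fun i => by
    split
    · exact isHomogeneous_zero _ _ _
    · exact isHomogeneous_X _ _
  have := MvPolynomial.IsHomogeneous.aeval (show p.IsHomogeneous e from hp) _ h
  rw [one_mul] at this
  exact this

/-- The ideal of a coordinate subspace. -/
abbrev I (j : ℕ) : Ideal A := RingHom.ker (φ (k := k) (r := r) j)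

/-- Its coordinate ring. -/
abbrev M (k : Type u) [Field k] (r j : ℕ) : Type u :=
  MvPolynomial (Fin (r + 1)) k ⧸ I (k := k) (r := r) j

/-- The pieces of the coordinate ring. -/
def gr (j i : ℕ) : Submodule k (M k r j) :=
  (CohB1.polyGrading r k i).map (Ideal.Quotient.mkₐ k (I (k := k) (r := r) j)).toLinearMap

theorem mem_gr {j i : ℕ} {a : M k r j} :
    a ∈ gr (k := k) (r := r) j i ↔
      ∃ p ∈ CohB1.polyGrading r k i, Ideal.Quotient.mk (I (k := k) (r := r) j) p = a := Iff.rfl

instance gradedSMul_gr (j : ℕ) : SetLike.GradedSMul (CohB1.polyGrading r k) (gr (k := k) (r := r) j) where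
  smul_mem {e i q a} hq ha := by
    obtain ⟨p, hp, rfl⟩ := mem_gr.1 ha
    exact mem_gr.2 ⟨q * p, SetLike.mul_mem_graded hq hp, rfl⟩

/-- The pieces, shifted by one. -/
def gr' (j : ℕ) : ℕ → Submodule k (M k r j)
  | 0 => ⊥
  | i + 1 => gr j i

instance gradedSMul_gr' (j : ℕ) : SetLike.GradedSMul (CohB1.polyGrading r k) (gr' (k := k) (r := r) j) where
  smul_mem {e i q a} hq ha := by
    cases i with
    | zero =>
      change a ∈ (⊥ : Submodule k (M k r j)) at ha
      rw [(Submodule.mem_bot k).1 ha, smul_zero]; exact zero_mem _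
    | succ i => exact SetLike.GradedSMul.smul_mem (B := gr (k := k) (r := r) j) hq ha

/-- The sheaf of a coordinate subspace, twisted. -/
abbrev S (j : ℕ) (d : ℤ) : (CohB1.ProjSpace r k).Modules :=
  GrTilde.tilde (CohB1.polyGrading r k) (gr (k := k) (r := r) j) d

/-- The shifted version. -/
abbrev S' (j : ℕ) (d : ℤ) : (CohB1.ProjSpace r k).Modules :=
  GrTilde.tilde (CohB1.polyGrading r k) (gr' (k := k) (r := r) j) d

theorem locMap_eq_id {N : Type u} [AddCommGroup N] [Module k N] [Module A N] (f : N →ₗ[A] N)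
    (hf : f = LinearMap.id) (x : ProjectiveSpectrum (CohB1.polyGrading r k))
    (z : GrTilde.LocMod (CohB1.polyGrading r k) (M := N) x) : locMap f x z = z := by
  subst hf; exact locMap_id_apply x z

/-- Shifting the grading is twisting. -/
def shiftIso (j : ℕ) (d : ℤ) : S' (k := k) (r := r) j d ≅ S j (d - 1) where
  hom := tildeMap (LinearMap.id : M k r j →ₗ[A] M k r j) (c := -1)
    (fun i a ha _ _ => by
      cases i with
      | zero => exact Or.inr ((Submodule.mem_bot k).1 ha)
      | succ i => exact Or.inl ⟨i, by push_cast; ring, ha⟩) (by ring)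
  inv := tildeMap (LinearMap.id : M k r j →ₗ[A] M k r j) (c := 1)
    (fun i a ha _ _ => Or.inl ⟨i + 1, by push_cast; ring, ha⟩) (by ring)
  hom_inv_id := tilde_hom_ext fun U σ x =>
    (locMap_comp_apply _ _ x.1 _).trans (locMap_eq_id _ (LinearMap.id_comp _) x.1 _)
  inv_hom_id := tilde_hom_ext fun U σ x =>
    (locMap_comp_apply _ _ x.1 _).trans (locMap_eq_id _ (LinearMap.id_comp _) x.1 _)

/-- The whole space. -/
def zeroIso (d : ℤ) : S (k := k) (r := r) 0 d ≅ TS r k d :=
  have hI : I (k := k) (r := r) 0 = ⊥ := by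
    ext p; simp [RingHom.mem_ker, φ_zero]
  let e : M k r 0 →ₗ[A] A := Submodule.liftQ _ LinearMap.id (by rw [hI]; exact bot_le)
  have he : e.comp (Submodule.mkQ _) = LinearMap.id := Submodule.liftQ_mkQ _ _ _
  have he' : (Submodule.mkQ (I (k := k) (r := r) 0)).comp e = LinearMap.id :=
    Submodule.linearMap_qext _ (by rw [LinearMap.comp_assoc, he, LinearMap.id_comp, LinearMap.comp_id])
  { hom := tildeMap e (c := 0) (fun i a ha _ _ => by
      obtain ⟨p, hp, rfl⟩ := mem_gr.1 ha
      exact Or.inl ⟨i, by simp, hp⟩) (by ring)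
    inv := tildeMap (Submodule.mkQ (I (k := k) (r := r) 0) : A →ₗ[A] M k r 0) (c := 0)
      (fun i a ha _ _ => Or.inl ⟨i, by simp, mem_gr.2 ⟨a, ha, rfl⟩⟩) (by ring)
    hom_inv_id := tilde_hom_ext fun U σ x =>
      (locMap_comp_apply _ _ x.1 _).trans (locMap_eq_id _ he' x.1 _)
    inv_hom_id := tilde_hom_ext fun U σ x =>
      (locMap_comp_apply _ _ x.1 _).trans (locMap_eq_id _ he x.1 _) }

theorem isZero_top (d : ℤ) : IsZero (S (k := k) (r := r) (r + 1) d) := by
  rw [IsZero.iff_id_eq_zero]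
  refine tilde_hom_ext fun U σ x => ?_
  suffices h : ∀ z : GrTilde.LocMod (CohB1.polyGrading r k) (M := M k r (r + 1)) x.1, z = 0 from
    (h _).trans (h _).symm
  intro z
  obtain ⟨f, hf, hfx⟩ := ProjCoh.Coherent.hcov (n := r) (R := k) x.1
  induction z using LocalizedModule.induction_on with
  | h a s =>
    rw [← LocalizedModule.zero_mk s, LocalizedModule.mk_eq]
    refine ⟨⟨f, hfx⟩, ?_⟩
    obtain ⟨p, rfl⟩ := Ideal.Quotient.mk_surjective a
    simp only [Submonoid.smul_def, smul_zero]
    refine Eq.trans (smul_comm f (s : A) (Ideal.Quotient.mk (I (k := k) (r := r) (r + 1)) p)) ?_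
    refine Eq.trans (congrArg (fun y => (s : A) • y) ?_) (smul_zero _)
    change Ideal.Quotient.mk (I (k := k) (r := r) (r + 1)) (f * p) = 0
    refine Ideal.Quotient.eq_zero_iff_mem.2 ?_
    have hf0 : φ (k := k) (r := r) (r + 1) f = 0 := by
      have e : φ (k := k) (r := r) (r + 1) = (Algebra.ofId k A).comp (aeval fun _ => 0) :=
        algHom_ext fun i => by simp [φ_X, i.isLt, aeval_X]
      rw [e, AlgHom.comp_apply, aeval_zero', constantCoeff_eq,
        (show f.IsHomogeneous 1 from hf).coeff_eq_zero (d := 0) (by simp)]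
      simp
    rw [RingHom.mem_ker, map_mul, hf0, zero_mul]

theorem φ_decompose (j : ℕ) (u : A) (e : ℕ) :
    φ (k := k) (r := r) j (DirectSum.decompose (CohB1.polyGrading r k) u e : A) =
      (DirectSum.decompose (CohB1.polyGrading r k) (φ j u) e : A) := by
  classical
  conv_rhs => rw [← DirectSum.sum_support_decompose (CohB1.polyGrading r k) u, map_sum]
  rw [DirectSum.decompose_sum, DFinsupp.finset_sum_apply, AddSubmonoidClass.coe_finset_sum,
    Finset.sum_eq_single e]
  · exact (DirectSum.decompose_of_mem_same _ (φ_homogeneous j (SetLike.coe_mem _))).symm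
  · intro i _ hi
    exact DirectSum.decompose_of_mem_ne _ (φ_homogeneous j (SetLike.coe_mem _)) hi
  · intro he
    rw [DFinsupp.notMem_support_iff.mp he]
    simp

theorem X_dvd_sub {j : ℕ} (hj : j < r + 1) (p : A) :
    (X ⟨j, hj⟩ : A) ∣ φ (k := k) (r := r) j p - φ (j + 1) p := by
  induction p using MvPolynomial.induction_on with
  | C a => simp [φ]
  | add p q hp hq =>
    rw [map_add, map_add, add_sub_add_comm]
    exact dvd_add hp hq
  | mul_X p i hp =>
    rw [map_mul, map_mul, φ_X, φ_X]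
    by_cases h : (i : ℕ) < j
    · simp [h, show (i : ℕ) < j + 1 by omega]
    · by_cases h' : (i : ℕ) = j
      · obtain rfl : i = ⟨j, hj⟩ := Fin.ext h'
        simp
      · simp only [h, show ¬ (i : ℕ) < j + 1 by omega, if_false]
        rw [← sub_mul]
        exact dvd_mul_of_dvd_left hp _

/-- The Koszul step. -/
theorem exists_shortExact (j : ℕ) (hj : j < r + 1) (d : ℤ) :
    ∃ T : ShortComplex (CohB1.ProjSpace r k).Modules, T.ShortExact ∧
      T.X₁ = S' (k := k) (r := r) j d ∧ T.X₂ = S j d ∧ T.X₃ = S (j + 1) d := by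
  let xj : A := X ⟨j, hj⟩
  have hxj : φ (k := k) (r := r) j xj = xj := by simp [xj, φ_X]
  have hIle : I (k := k) (r := r) j ≤ Submodule.comap LinearMap.id (I (k := k) (r := r) (j + 1)) :=
    fun p hp => by
      show φ (k := k) (r := r) (j + 1) p = 0
      rw [← φ_φ (Nat.le_succ j), RingHom.mem_ker.1 hp, map_zero]
  let f : M k r j →ₗ[A] M k r j := LinearMap.lsmul A (M k r j) xj
  let g : M k r j →ₗ[A] M k r (j + 1) := Submodule.mapQ _ _ LinearMap.id hIle
  have hg : ∀ p : A, g (Ideal.Quotient.mk _ p) = Ideal.Quotient.mk _ p := fun p => rfl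
  have hf : ∀ p : A, f (Ideal.Quotient.mk _ p) = Ideal.Quotient.mk _ (xj * p) := fun p => rfl
  refine ⟨_, shortExact_tilde (𝒩 := gr' (k := k) (r := r) j) (ℳ := gr (k := k) (r := r) j)
    (ℒ := gr (k := k) (r := r) (j + 1)) f g (n := d) ?_ ?_ ?_ ?_ ?_ ?_ ?_, rfl, rfl, rfl⟩
  · intro i a ha _ _
    cases i with
    | zero => exact Or.inr (by rw [(Submodule.mem_bot k).1 ha, map_zero])
    | succ i =>
      obtain ⟨p, hp, rfl⟩ := mem_gr.1 ha
      refine Or.inl ⟨i + 1, by simp, ?_⟩
      rw [hf]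
      refine mem_gr.2 ⟨xj * p, ?_, rfl⟩
      rw [add_comm i 1]
      exact SetLike.mul_mem_graded (isHomogeneous_X k _) hp
  · intro i a ha _ _
    obtain ⟨p, hp, rfl⟩ := mem_gr.1 ha
    exact Or.inl ⟨i, by simp, mem_gr.2 ⟨p, hp, rfl⟩⟩
  · rw [injective_iff_map_eq_zero]
    intro a ha
    obtain ⟨p, rfl⟩ := Ideal.Quotient.mk_surjective a
    rw [hf, Ideal.Quotient.eq_zero_iff_mem, RingHom.mem_ker, map_mul, hxj] at ha
    exact Ideal.Quotient.eq_zero_iff_mem.2 ((mul_eq_zero.1 ha).resolve_left (X_ne_zero _))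
  · refine Submodule.linearMap_qext _ (LinearMap.ext fun p => ?_)
    change g (f (Ideal.Quotient.mk _ p)) = 0
    rw [hf, hg, Ideal.Quotient.eq_zero_iff_mem, RingHom.mem_ker, map_mul, φ_X,
      if_pos (show j < j + 1 by omega), zero_mul]
  · intro i a ha h0
    obtain ⟨p, hp, rfl⟩ := mem_gr.1 ha
    rw [hg, Ideal.Quotient.eq_zero_iff_mem, RingHom.mem_ker] at h0
    obtain ⟨q, hq⟩ := X_dvd_sub (k := k) hj p
    rw [h0, sub_zero] at hq
    have hmk : Ideal.Quotient.mk (I (k := k) (r := r) j) p =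
        Ideal.Quotient.mk _ (φ (k := k) (r := r) j p) := by
      rw [Ideal.Quotient.eq, RingHom.mem_ker, map_sub, φ_φ le_rfl, sub_self]
    have hpj : (xj * q).IsHomogeneous i := by
      show (X _ * q).IsHomogeneous i
      rw [← hq]; exact φ_homogeneous j hp
    have hq' : ∀ c, coeff c q ≠ 0 → c.degree + 1 = i := fun c hc => by
      have h1 : coeff (Finsupp.single ⟨j, hj⟩ 1 + c) (xj * q) ≠ 0 := by
        rwa [coeff_X_mul]
      have h2 := hpj h1
      have h3 : (Finsupp.single (⟨j, hj⟩ : Fin (r + 1)) 1 + c).degree = i := by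
        rw [Finsupp.degree_eq_weight_one]; exact h2
      rw [map_add, Finsupp.degree_single] at h3
      omega
    cases i with
    | zero =>
      have : q = 0 := ext _ _ fun c => by
        by_contra hc
        exact absurd (hq' c (by simpa using hc)) (by omega)
      refine ⟨0, zero_mem _, ?_⟩
      rw [map_zero, hmk, hq, this, mul_zero, map_zero]
    | succ i =>
      refine ⟨Ideal.Quotient.mk _ q, mem_gr.2 ⟨q, fun c hc => ?_, rfl⟩, ?_⟩
      · have := hq' c hc
        rw [Finsupp.degree_eq_weight_one] at this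
        show Finsupp.weight 1 c = i
        exact Nat.succ_injective this
      · rw [hf, hmk, hq]
  · intro i a ha
    obtain ⟨p, hp, rfl⟩ := mem_gr.1 ha
    exact ⟨Ideal.Quotient.mk _ p, mem_gr.2 ⟨p, hp, rfl⟩, hg p⟩
  · intro i a ha u hu e
    obtain ⟨p, hp, rfl⟩ := mem_gr.1 ha
    change Ideal.Quotient.mk _ (u * p) = 0 at hu
    change Ideal.Quotient.mk _ ((DirectSum.decompose (CohB1.polyGrading r k) u e : A) * p) = 0
    rw [Ideal.Quotient.eq_zero_iff_mem, RingHom.mem_ker, map_mul] at hu ⊢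
    rw [φ_decompose]
    rcases mul_eq_zero.1 hu with h | h
    · simp [h]
    · rw [h, mul_zero]

end Groth.Agent.H95.SyzRes.Koszul
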